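import Mathlib

/-! Topologies generated by a class of quasi-compact covering morphisms, affine-locally. -/

set_option autoImplicit false
universe u

open CategoryTheory Limits AlgebraicGeometry TopologicalSpace

namespace BigSiteLib

variable {S : Scheme.{u}} (C : MorphismProperty Scheme.{u})

/-- The covering condition. -/
def Cov (X : Over S) (R : Sieve X) : Prop :=
  ∃ (ι : Type u) (U : ι → X.left.Opens), (∀ i, IsAffineOpen (U i)) ∧ ⨆ i, U i = ⊤ ∧
    ∀ i, ∃ (κ : Type u) (_ : Finite κ) (V : κ → Over S) (φ : ∀ j, V j ⟶ X)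
      (ψ : ∀ j, (V j).left ⟶ (U i : Scheme.{u})),
      (∀ j, IsAffine (V j).left) ∧ (∀ j, R.arrows (φ j)) ∧ (∀ j, ψ j ≫ (U i).ι = (φ j).left) ∧
        C (Limits.Sigma.desc ψ)

variable [C.IsStableUnderComposition] [C.IsStableUnderBaseChange]
  (hcoprod : ∀ (κ : Type u) [Finite κ] (A B : κ → Scheme.{u}) (f : ∀ j, A j ⟶ B j),
    (∀ j, C (f j)) → C (Limits.Sigma.map f))
  (haff : ∀ (U : Scheme.{u}) [IsAffine U] (κ : Type u) [Finite κ] (V : κ → U.Opens),
    (∀ j, IsAffineOpen (V j)) → ⨆ j, V j = ⊤ → C (Limits.Sigma.desc fun j => (V j).ι))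

include haff in
theorem id_affine (U : Scheme.{u}) [IsAffine U] : C (𝟙 U) := by
  have h := haff U PUnit.{u+1} (fun _ => ⊤) (fun _ => isAffineOpen_top U) iSup_const
  let e : U ≅ ∐ fun _ : PUnit.{u+1} => ((⊤ : U.Opens) : Scheme.{u}) :=
    { hom := U.topIso.inv ≫ Limits.Sigma.ι (fun _ : PUnit.{u+1} => ((⊤ : U.Opens) : Scheme.{u})) ⟨⟩
      inv := Limits.Sigma.desc fun _ => (⊤ : U.Opens).ι
      hom_inv_id := by rw [← Scheme.topIso_hom]; simp
      inv_hom_id := by rw [← Scheme.topIso_hom]; ext ⟨⟩; simp }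
  haveI : IsIso e.hom := e.isIso_hom
  have h' : C (e.hom ≫ Limits.Sigma.desc fun _ : PUnit.{u+1} => (⊤ : U.Opens).ι) :=
    (MorphismProperty.cancel_left_of_respectsIso C e.hom _).2 h
  rwa [show e.hom ≫ Limits.Sigma.desc (fun _ : PUnit.{u+1} => (⊤ : U.Opens).ι) = 𝟙 U from e.hom_inv_id] at h'

include hcoprod in
theorem glue {U : Scheme.{u}} {κ : Type u} [Finite κ] {V : κ → Scheme.{u}} (ψ : ∀ j, V j ⟶ U) (hψ : C (Limits.Sigma.desc ψ))
    (κ' : κ → Type u) [∀ j, Finite (κ' j)] (W : ∀ j, κ' j → Scheme.{u}) (ψ' : ∀ j l, W j l ⟶ V j)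
    (hψ' : ∀ j, C (Limits.Sigma.desc (ψ' j))) : C (Limits.Sigma.desc fun p : Σ j, κ' j => ψ' p.1 p.2 ≫ ψ p.1) := by
  have h1 : C (Limits.Sigma.map (fun j => Limits.Sigma.desc (ψ' j)) ≫ Limits.Sigma.desc ψ) :=
    C.comp_mem _ _ (hcoprod κ _ _ _ hψ') hψ
  have e : (sigmaSigmaIso κ' W).hom ≫ Limits.Sigma.desc (fun p : Σ j, κ' j => ψ' p.1 p.2 ≫ ψ p.1) =
      Limits.Sigma.map (fun j => Limits.Sigma.desc (ψ' j)) ≫ Limits.Sigma.desc ψ := by
    refine Limits.Sigma.hom_ext _ _ fun j => Limits.Sigma.hom_ext _ _ fun l => ?_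
    simp
  rw [← e] at h1
  exact (MorphismProperty.cancel_left_of_respectsIso C _ _).1 h1

theorem pull {U W : Scheme.{u}} {κ : Type u} [Finite κ] {V : κ → Scheme.{u}} (ψ : ∀ j, V j ⟶ U)
    (hψ : C (Limits.Sigma.desc ψ)) (g : W ⟶ U) : C (Limits.Sigma.desc fun p : κ × PUnit.{u+1} => pullback.snd (ψ p.1) g) := by
  have h := FinitaryPreExtensive.isPullback_sigmaDesc ψ (fun _ : PUnit.{u+1} => g)
  have h1 := C.of_isPullback h hψ
  let e : (∐ fun _ : PUnit.{u+1} => W) ≅ W :=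
    { hom := Limits.Sigma.desc fun _ => 𝟙 W
      inv := Limits.Sigma.ι (fun _ : PUnit.{u+1} => W) ⟨⟩
      hom_inv_id := by ext ⟨⟩; simp
      inv_hom_id := by simp }
  haveI : IsIso e.hom := e.isIso_hom
  have h2 := (MorphismProperty.cancel_right_of_respectsIso C _ e.hom).2 h1
  convert h2 using 1
  refine Limits.Sigma.hom_ext _ _ fun p => ?_
  simp [e]

include haff in
theorem cov_top (X : Over S) : Cov C X ⊤ := by
  refine ⟨X.left.affineOpens, fun U => U.1, fun U => U.2, iSup_affineOpens_eq_top _, fun i => ?_⟩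
  haveI : IsAffine (i.1 : Scheme.{u}) := i.2
  refine ⟨PUnit.{u+1}, inferInstance, fun _ => Over.mk (i.1.ι ≫ X.hom), fun _ => Over.homMk i.1.ι,
    fun _ => 𝟙 _, fun _ => i.2, fun _ => trivial, fun _ => Category.id_comp _, ?_⟩
  have h := id_affine C haff (i.1 : Scheme.{u})
  let e : (i.1 : Scheme.{u}) ≅ ∐ fun _ : PUnit.{u+1} => (i.1 : Scheme.{u}) :=
    { hom := Limits.Sigma.ι (fun _ : PUnit.{u+1} => (i.1 : Scheme.{u})) ⟨⟩
      inv := Limits.Sigma.desc fun _ => 𝟙 _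
      hom_inv_id := by simp
      inv_hom_id := by ext ⟨⟩; simp }
  haveI : IsIso e.hom := e.isIso_hom
  exact (MorphismProperty.cancel_left_of_respectsIso C e.hom _).1
    (e.hom_inv_id.symm ▸ h :)

theorem cov_pullback {X Y : Over S} (f : Y ⟶ X) {R : Sieve X} (hR : Cov C X R) : Cov C Y (R.pullback f) := by
  obtain ⟨ι, U, hU, hUt, h⟩ := hR
  choose κ hκ V φ ψ hV hφ hψ hC using h
  refine ⟨{p : Y.left.affineOpens × ι // (p.1 : Y.left.Opens) ≤ f.left ⁻¹ᵁ U p.2}, fun p => p.1.1.1, fun p => p.1.1.2, ?_, fun ⟨⟨W, i⟩, hW⟩ => ?_⟩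
  · refine top_unique fun y _ => ?_
    obtain ⟨i, hi⟩ := Opens.mem_iSup.1 (hUt.ge (show f.left y ∈ (⊤ : X.left.Opens) from trivial))
    obtain ⟨W, hW, hy, hWU⟩ := exists_isAffineOpen_mem_and_subset (X := Y.left) (x := y) (U := f.left ⁻¹ᵁ U i) hi
    exact Opens.mem_iSup.2 ⟨⟨⟨⟨W, hW⟩, i⟩, hWU⟩, hy⟩
  · haveI := hκ i
    haveI : IsAffine (U i : Scheme.{u}) := hU i
    haveI : IsAffine (W.1 : Scheme.{u}) := W.2
    let g := f.left.resLE (U i) W.1 hW
    refine ⟨κ i × PUnit.{u+1}, inferInstance, fun p => Over.mk (pullback.snd (ψ i p.1) g ≫ W.1.ι ≫ Y.hom),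
      fun p => Over.homMk (pullback.snd (ψ i p.1) g ≫ W.1.ι) (by simp), fun p => pullback.snd (ψ i p.1) g,
      fun p => ?_, fun p => ?_, fun p => rfl, pull C (ψ i) (hC i) g⟩
    · haveI := hV i p.1
      exact inferInstanceAs (IsAffine (pullback (ψ i p.1) g))
    · have hw : pullback.fst (ψ i p.1) g ≫ (V i p.1).hom = pullback.snd (ψ i p.1) g ≫ W.1.ι ≫ Y.hom := by
        rw [← Over.w (φ i p.1), ← hψ i p.1, Category.assoc, pullback.condition_assoc,
          ← Category.assoc g, Scheme.Hom.resLE_comp_ι, Category.assoc, Over.w f]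
      let a : Over.mk (pullback.snd (ψ i p.1) g ≫ W.1.ι ≫ Y.hom) ⟶ V i p.1 := Over.homMk (pullback.fst _ _) hw
      show R.arrows (_ ≫ f)
      convert R.downward_closed (hφ i p.1) a using 1
      ext1
      show (pullback.snd (ψ i p.1) g ≫ W.1.ι) ≫ f.left = pullback.fst _ _ ≫ (φ i p.1).left
      rw [← hψ i p.1, pullback.condition_assoc, Category.assoc, Scheme.Hom.resLE_comp_ι]

include hcoprod haff in
theorem cov_trans {X : Over S} {R : Sieve X} (hR : Cov C X R) (R' : Sieve X)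
    (h' : ∀ ⦃Y : Over S⦄ ⦃f : Y ⟶ X⦄, R.arrows f → Cov C Y (R'.pullback f)) : Cov C X R' := by
  classical
  obtain ⟨ι, U, hU, hUt, h⟩ := hR
  refine ⟨ι, U, hU, hUt, fun i => ?_⟩
  obtain ⟨κ, hκ, V, φ, ψ, hV, hφ, hψ, hC⟩ := h i
  have key : ∀ j, ∃ (μ : Type u) (_ : Finite μ) (W : μ → Over S) (χ : ∀ m, W m ⟶ X) (χ' : ∀ m, (W m).left ⟶ (V j).left),
      (∀ m, IsAffine (W m).left) ∧ (∀ m, R'.arrows (χ m)) ∧ (∀ m, χ' m ≫ (φ j).left = (χ m).left) ∧ C (Limits.Sigma.desc χ') := by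
    intro j
    obtain ⟨ι', U', hU', hUt', h''⟩ := h' (hφ j)
    haveI := hV j
    obtain ⟨t, ht⟩ := isCompact_univ.elim_finite_subcover (fun l => (U' l : Set (V j).left)) (fun l => (U' l).2)
      (fun y _ => Set.mem_iUnion.2 (Opens.mem_iSup.1 (hUt'.ge (Opens.mem_top y))))
    choose κ' hκ' W φ' ψ' hW hφ' hψ' hC' using fun l : t => h'' l.1
    haveI := hκ'
    have hc : C (Limits.Sigma.desc fun l : t => (U' l.1).ι) :=
      haff _ t _ (fun l => hU' l.1) (top_unique fun y _ => by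
        obtain ⟨l, hl, hy⟩ := Set.mem_iUnion₂.1 (ht (Set.mem_univ y))
        exact Opens.mem_iSup.2 ⟨⟨l, hl⟩, hy⟩)
    refine ⟨Σ l : t, κ' l, inferInstance, fun m => W m.1 m.2, fun m => φ' m.1 m.2 ≫ φ j,
      fun m => ψ' m.1 m.2 ≫ (U' m.1.1).ι, fun m => hW m.1 m.2, fun m => hφ' m.1 m.2, fun m => ?_,
      glue C hcoprod _ hc κ' (fun l m => (W l m).left) ψ' hC'⟩
    simp only [hψ' m.1 m.2]; rfl
  choose μ hμ W χ χ' hWaff hχ hχ' hCχ using key
  haveI := hκ; haveI := hμ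
  refine ⟨Σ j, μ j, inferInstance, fun p => W p.1 p.2, fun p => χ p.1 p.2, fun p => χ' p.1 p.2 ≫ ψ p.1,
    fun p => hWaff p.1 p.2, fun p => hχ p.1 p.2, fun p => ?_, glue C hcoprod ψ hC μ (fun j m => (W j m).left) χ' hCχ⟩
  rw [Category.assoc, hψ, hχ']

/-- The topology generated affine-locally by `C`. -/
def topology : GrothendieckTopology (Over S) where
  sieves X := {R | Cov C X R}
  top_mem' X := cov_top C haff X
  pullback_stable' _ _ _ f h := cov_pullback C f h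
  transitive' _ _ hR R' h' := cov_trans C hcoprod haff hR R' h'

end BigSiteLib
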