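import Groth.Agent.BigSiteLib.Basic

set_option autoImplicit false
universe u v

open CategoryTheory Limits AlgebraicGeometry TopologicalSpace

namespace BigSiteLib

variable {S : Scheme.{u}} (C : MorphismProperty Scheme.{u}) [C.IsStableUnderComposition] [C.IsStableUnderBaseChange]

/-- A sieve containing (arrows over) an open cover is Zariski covering. -/
theorem mem_zar {X : Over S} (R : Sieve X) (𝒰 : X.left.OpenCover)
    (h : ∀ j, R.arrows (Over.homMk (𝒰.f j) : Over.mk (𝒰.f j ≫ X.hom) ⟶ X)) :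
    R ∈ (Scheme.zariskiTopology.over S) X := by
  rw [GrothendieckTopology.mem_over_iff]
  refine GrothendieckTopology.superset_covering _ ?_ 𝒰.mem_grothendieckTopology
  rw [Sieve.ofArrows, Sieve.generate_le_iff]
  rintro _ _ ⟨j⟩
  exact (Sieve.overEquiv_iff R _).2 (h j)

theorem exists_cover {X : Over S} {R : Sieve X} (h : R ∈ (Scheme.zariskiTopology.over S) X) :
    ∃ 𝒰 : Scheme.OpenCover.{u} X.left, ∀ j, R.arrows (Over.homMk (𝒰.f j) : Over.mk (𝒰.f j ≫ X.hom) ⟶ X) := by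
  rw [GrothendieckTopology.mem_over_iff] at h
  obtain ⟨𝒰, h𝒰⟩ := Scheme.exists_cover_of_mem_grothendieckTopology h
  exact ⟨𝒰, fun j => (Sieve.overEquiv_iff R _).1 (h𝒰 _ _ (Presieve.ofArrows.mk j))⟩

theorem cov_of_zar
    (haff : ∀ (U : Scheme.{u}) [IsAffine U] (κ : Type u) [Finite κ] (V : κ → U.Opens),
      (∀ j, IsAffineOpen (V j)) → ⨆ j, V j = ⊤ → C (Limits.Sigma.desc fun j => (V j).ι))
    {X : Over S} {R : Sieve X} (h : R ∈ (Scheme.zariskiTopology.over S) X) : Cov C X R := by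
  obtain ⟨𝒰, h𝒰⟩ := exists_cover h
  refine ⟨{W : X.left.affineOpens // ∃ j, (W : X.left.Opens) ≤ (𝒰.f j).opensRange}, fun W => W.1.1, fun W => W.1.2, ?_, fun ⟨W, j, hW⟩ => ?_⟩
  · refine top_unique fun x _ => ?_
    obtain ⟨j, y, hy⟩ := 𝒰.exists_eq x
    obtain ⟨W, hW, hx, hWle⟩ := exists_isAffineOpen_mem_and_subset (X := X.left) (x := x) (U := (𝒰.f j).opensRange) ⟨y, hy⟩
    exact Opens.mem_iSup.2 ⟨⟨⟨W, hW⟩, j, hWle⟩, hx⟩
  · haveI : IsAffine (W.1 : Scheme.{u}) := W.2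
    let l := IsOpenImmersion.lift (𝒰.f j) W.1.ι (by rw [Scheme.Opens.range_ι]; exact hW)
    have hl : l ≫ 𝒰.f j = W.1.ι := IsOpenImmersion.lift_fac _ _ _
    refine ⟨PUnit.{u+1}, inferInstance, fun _ => Over.mk (W.1.ι ≫ X.hom), fun _ => Over.homMk W.1.ι,
      fun _ => 𝟙 _, fun _ => W.2, fun _ => ?_, fun _ => Category.id_comp _, ?_⟩
    · convert R.downward_closed (h𝒰 j) (Over.homMk l (by show l ≫ 𝒰.f j ≫ X.hom = W.1.ι ≫ X.hom; rw [← Category.assoc, hl]) : Over.mk (W.1.ι ≫ X.hom) ⟶ Over.mk (𝒰.f j ≫ X.hom)) using 1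
      ext1; exact hl.symm
    · let e : (W.1 : Scheme.{u}) ≅ ∐ fun _ : PUnit.{u+1} => (W.1 : Scheme.{u}) :=
        { hom := Limits.Sigma.ι (fun _ : PUnit.{u+1} => (W.1 : Scheme.{u})) ⟨⟩
          inv := Limits.Sigma.desc fun _ => 𝟙 _
          hom_inv_id := by simp
          inv_hom_id := by ext ⟨⟩; simp }
      haveI : IsIso e.hom := e.isIso_hom
      exact (MorphismProperty.cancel_left_of_respectsIso C e.hom _).1 (e.hom_inv_id.symm ▸ id_affine C haff _ :)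

theorem cov_singleton (hqc : ∀ {A B : Scheme.{u}} (f : A ⟶ B), C f → QuasiCompact f)
    (hres : ∀ (W X' : Scheme.{u}) [IsAffine W] (f : X' ⟶ W), C f →
      ∀ (κ : Type u) [Finite κ] (A : κ → X'.Opens), (∀ l, IsAffineOpen (A l)) → ⨆ l, A l = ⊤ →
        C (Limits.Sigma.desc fun l => (A l).ι ≫ f))
    {X X' : Over S} (f : X' ⟶ X) (hf : C f.left) : Cov C X (Sieve.generate (Presieve.singleton f)) := by
  refine ⟨X.left.affineOpens, fun U => U.1, fun U => U.2, iSup_affineOpens_eq_top _, fun i => ?_⟩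
  haveI : IsAffine (i.1 : Scheme.{u}) := i.2
  let fi : (f.left ⁻¹ᵁ i.1 : Scheme.{u}) ⟶ i.1 := f.left ∣_ i.1
  have hfi : C fi := C.of_isPullback (isPullback_morphismRestrict f.left i.1).flip hf
  haveI := hqc fi hfi
  haveI : CompactSpace ↥(f.left ⁻¹ᵁ i.1 : Scheme.{u}) := QuasiCompact.compactSpace_of_compactSpace fi
  let 𝒱 := (f.left ⁻¹ᵁ i.1 : Scheme.{u}).affineCover.finiteSubcover
  refine ⟨𝒱.I₀, inferInstance, fun l => Over.mk ((𝒱.f l).opensRange.ι ≫ (f.left ⁻¹ᵁ i.1).ι ≫ X'.hom),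
    fun l => (Over.homMk ((𝒱.f l).opensRange.ι ≫ (f.left ⁻¹ᵁ i.1).ι) (by simp) : _ ⟶ X') ≫ f,
    fun l => (𝒱.f l).opensRange.ι ≫ fi, fun l => ?_, fun l => ⟨_, _, _, Presieve.singleton_self f, rfl⟩, fun l => ?_, ?_⟩
  · exact isAffineOpen_opensRange (𝒱.f l)
  · simp [fi, morphismRestrict_ι]
  · exact hres _ _ fi hfi _ _ (fun l => isAffineOpen_opensRange _) 𝒱.iSup_opensRange

theorem isSheaf_of (F : (Over S)ᵒᵖ ⥤ Type v)
    (hzar : Presieve.IsSheaf (Scheme.zariskiTopology.over S) F)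
    (hsing : ∀ (X X' : Over S) (f : X' ⟶ X), C f.left → Presieve.IsSheafFor F (Presieve.singleton f))
    {X : Over S} (R : Sieve X) (hR : Cov C X R) : R ∈ Sheaf.finestTopologySingle F X := by
  classical
  let K := Sheaf.finestTopologySingle F
  have hz : ∀ {Y : Over S} (T : Sieve Y), T ∈ (Scheme.zariskiTopology.over S) Y → T ∈ K Y := fun T hT Z g =>
    hzar _ (GrothendieckTopology.pullback_stable _ g hT)
  have hs : ∀ {Y Y' : Over S} (g : Y' ⟶ Y), C g.left → Sieve.generate (Presieve.singleton g) ∈ K Y := by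
    intro Y Y' g hg Z h
    haveI : HasPullback g h := inferInstance
    rw [← Sieve.pullbackArrows_comm, Presieve.pullback_singleton, ← Presieve.isSheafFor_iff_generate]
    refine hsing _ _ _ ?_
    exact C.of_isPullback ((IsPullback.of_hasPullback g h).map (Over.forget S)) hg
  obtain ⟨ι, U, hU, hUt, h⟩ := hR
  let 𝒰 : X.left.OpenCover := X.left.openCoverOfIsOpenCover U hUt
  let u : ∀ i, Over.mk ((U i).ι ≫ X.hom) ⟶ X := fun i => Over.homMk (U i).ι
  refine K.transitive (hz (Sieve.ofArrows _ u) (mem_zar _ 𝒰 fun i => Sieve.ofArrows_mk _ u i)) R ?_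
  rintro Y g ⟨W, a, _, ⟨i⟩, rfl⟩
  rw [Sieve.pullback_comp]
  refine K.pullback_stable a ?_
  obtain ⟨κ, hκ, V, φ, ψ, hV, hφ, hψ, hC⟩ := h i
  let Vt : Over S := Over.mk (Limits.Sigma.desc ψ ≫ (U i).ι ≫ X.hom)
  let d : Vt ⟶ Over.mk ((U i).ι ≫ X.hom) := Over.homMk (Limits.Sigma.desc ψ) rfl
  refine K.transitive (hs d hC) _ ?_
  rintro Z b ⟨Z', c, _, ⟨⟩, rfl⟩
  rw [Sieve.pullback_comp]
  refine K.pullback_stable c (hz _ (mem_zar _ (sigmaOpenCover fun j => (V j).left) fun j => ?_))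
  have hw : (V j).hom = (sigmaOpenCover fun j => (V j).left).f j ≫ Vt.hom := by
    show (V j).hom = Limits.Sigma.ι (fun j => (V j).left) j ≫ Limits.Sigma.desc ψ ≫ (U i).ι ≫ X.hom
    rw [Limits.Sigma.ι_desc_assoc, ← Category.assoc, hψ, Over.w]
  let k : Over.mk ((sigmaOpenCover fun j => (V j).left).f j ≫ Vt.hom) ⟶ V j := Over.homMk (𝟙 (V j).left) ((Category.id_comp _).trans hw)
  show R.arrows ((_ ≫ d) ≫ u i)
  convert R.downward_closed (hφ j) k using 1
  ext1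
  show (Limits.Sigma.ι (fun j => (V j).left) j ≫ Limits.Sigma.desc ψ) ≫ (U i).ι = 𝟙 _ ≫ (φ j).left
  rw [Limits.Sigma.ι_desc, Category.id_comp, hψ]

end BigSiteLib
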